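import Mathlib
import Cfsg.Agent.H616.TI.Defs

/-!
# S4821: `GoodL` is invariant under isomorphisms
-/

set_option autoImplicit false

namespace Cfsg.Agent.H586.TI

open Subgroup Cfsg Cfsg.Agent.H616.TI

universe u v

theorem good_iso {p : ℕ} {R : Type u} {R' : Type v} [Group R] [Group R'] (f : R ≃* R') (A : Subgroup (MulAut R))
    (A' : Subgroup (MulAut R')) (hA : ∀ a, MulAut.congr f a ∈ A' → a ∈ A) (hA' : ∀ a ∈ A, MulAut.congr f a ∈ A')
    (h : Good p R' A') : Good p R A := by
  intro E hE hAE hnorm z hz hz1 e he hez he1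
  have hc : ∀ (g : MulAut R) (x : R), MulAut.congr f g (f x) = f (g x) := by
    intro g x
    change f (g (f.symm (f x))) = f (g x)
    rw [f.symm_apply_apply]
  have hAle : A' ≤ E.map (MulAut.congr f).toMonoidHom := by
    intro a' ha'
    obtain ⟨a, rfl⟩ := (MulAut.congr f).surjective a'
    exact ⟨a, hAE (hA a ha'), rfl⟩
  have key := h (E.map (MulAut.congr f).toMonoidHom) (fun hd => hE (hd.trans (Subgroup.card_map_dvd _ _))) hAle (by
      rintro _ ⟨x, hx, rfl⟩ a' ha'
      obtain ⟨a, rfl⟩ := (MulAut.congr f).surjective a'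
      have h1 := hA' _ (hnorm x hx a (hA a ha'))
      rw [map_mul, map_mul, map_inv] at h1
      exact h1) (f z) (by
      rw [mem_center_iff] at hz ⊢
      intro y
      obtain ⟨x, rfl⟩ := f.surjective y
      rw [← map_mul, ← map_mul, hz]) (by
      intro h1
      exact hz1 (f.injective (h1.trans (map_one f).symm))) (MulAut.congr f e) ⟨e, he, rfl⟩ (by rw [hc, hez]) (by
      intro h1
      exact he1 ((MulAut.congr f).injective (h1.trans (map_one _).symm)))
  have e1 : Nat.card {g : MulAut R' // g ∈ E.map (MulAut.congr f).toMonoidHom ∧ g (f z) = f z} =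
      Nat.card {g : MulAut R // g ∈ E ∧ g z = z} := by
    refine (Nat.card_congr ((MulAut.congr f).toEquiv.subtypeEquiv fun g => ?_)).symm
    constructor
    · rintro ⟨h1, h2⟩
      refine ⟨⟨g, h1, rfl⟩, ?_⟩
      change MulAut.congr f g (f z) = f z
      rw [hc, h2]
    · rintro ⟨⟨g', h1, h1'⟩, h2⟩
      have h3 : g' = g := (MulAut.congr f).injective h1'
      subst h3
      refine ⟨h1, ?_⟩
      have h4 : MulAut.congr f g' (f z) = f z := h2
      rw [hc] at h4
      exact f.injective h4
  have e2 : Nat.card {x : R' // MulAut.congr f e x = x} = Nat.card {x : R // e x = x} := by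
    refine (Nat.card_congr (f.toEquiv.subtypeEquiv fun x => ?_)).symm
    constructor
    · intro h1
      change MulAut.congr f e (f x) = f x
      rw [hc, h1]
    · intro h1
      have h2 : MulAut.congr f e (f x) = f x := h1
      rw [hc] at h2
      exact f.injective h2
  rw [e1, e2, ← Nat.card_congr f.toEquiv] at key
  exact key

/-- **[S4821-ISO]** -/
theorem result : GoalIso.{u} := by
  rintro p L _ L' _ ⟨e⟩ ⟨R', A', hAN, hpA, hsup, hgood⟩
  let R : Sylow p L := R'.comapOfInjective e.toMonoidHom e.injective (fun x _ => ⟨e.symm x, e.apply_symm_apply x⟩)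
  have hR : ∀ x : L, x ∈ (R : Subgroup L) ↔ e x ∈ (R' : Subgroup L') := fun x => Iff.rfl
  let A : Subgroup L := A'.comap e.toMonoidHom
  have hA : ∀ x : L, x ∈ A ↔ e x ∈ A' := fun x => Iff.rfl
  have hN : ∀ x : L, x ∈ normalizer ((R : Subgroup L) : Set L) ↔ e x ∈ normalizer ((R' : Subgroup L') : Set L') := by
    intro x
    rw [Subgroup.mem_normalizer_iff, Subgroup.mem_normalizer_iff]
    constructor
    · intro h y
      obtain ⟨y, rfl⟩ := e.surjective y
      have := h y
      rw [← map_mul, ← map_inv, ← map_mul]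
      exact this
    · intro h y
      have := h (e y)
      rw [← map_mul, ← map_inv, ← map_mul] at this
      exact this
  refine ⟨R, A, fun x hx => (hN x).2 (hAN hx), ?_, ?_, ?_⟩
  · intro h
    exact hpA (h.trans (Subgroup.card_comap_dvd_of_injective A' e.toMonoidHom e.injective))
  · apply le_antisymm
    · refine sup_le Subgroup.le_normalizer fun x hx => (hN x).2 (hAN hx)
    · intro x hx
      rw [hN, ← hsup] at hx
      have h1 : ((R' : Subgroup L') ⊔ A') ≤ ((R : Subgroup L) ⊔ A).map e.toMonoidHom := by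
        refine sup_le ?_ ?_
        · intro y hy
          obtain ⟨y, rfl⟩ := e.surjective y
          exact ⟨y, Subgroup.mem_sup_left hy, rfl⟩
        · intro y hy
          obtain ⟨y, rfl⟩ := e.surjective y
          exact ⟨y, Subgroup.mem_sup_right hy, rfl⟩
      obtain ⟨y, hy, hyx⟩ := h1 hx
      have h2 : y = x := e.injective hyx
      rwa [← h2]
  · let f : (R : Subgroup L) ≃* (R' : Subgroup L') :=
      { toFun := fun x => ⟨e x, x.2⟩
        invFun := fun x => ⟨e.symm x, by
          rw [hR, e.apply_symm_apply]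
          exact x.2⟩
        left_inv := fun x => Subtype.ext (e.symm_apply_apply _)
        right_inv := fun x => Subtype.ext (e.apply_symm_apply _)
        map_mul' := fun x y => Subtype.ext (map_mul e _ _) }
    have hf : ∀ x, ((f x : (R' : Subgroup L')) : L') = e x := fun x => rfl
    have key : ∀ (n : L) (hn : n ∈ normalizer ((R : Subgroup L) : Set L))
        (hn' : e n ∈ normalizer ((R' : Subgroup L') : Set L')),
        MulAut.congr f ((R : Subgroup L).normalizerMonoidHom ⟨n, hn⟩) =
          (R' : Subgroup L').normalizerMonoidHom ⟨e n, hn'⟩ := by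
      intro n hn hn'
      ext y
      obtain ⟨y, rfl⟩ := f.surjective y
      change ((f (((R : Subgroup L).normalizerMonoidHom ⟨n, hn⟩) (f.symm (f y))) : (R' : Subgroup L')) : L') = _
      rw [f.symm_apply_apply, hf]
      change e (n * y * n⁻¹) = e n * e y * (e n)⁻¹
      rw [map_mul, map_mul, map_inv]
    refine good_iso f _ _ ?_ ?_ hgood
    · rintro a ⟨⟨m, hm⟩, hmA, hma⟩
      obtain ⟨n, rfl⟩ := e.surjective m
      refine ⟨⟨n, (hN n).2 hm⟩, hmA, ?_⟩
      apply (MulAut.congr f).injective
      rw [key n ((hN n).2 hm) hm]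
      exact hma
    · rintro a ⟨⟨n, hn⟩, hnA, rfl⟩
      exact ⟨⟨e n, (hN n).1 hn⟩, hnA, (key n hn ((hN n).1 hn)).symm⟩

end Cfsg.Agent.H586.TI
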